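import Groth.Agent.Lib.GrMap12.Transitive
import Groth.Agent.Lib.KFlat.Pullback
import Groth.Agent.Lib.Cyc26.Stalk
import Mathlib.LinearAlgebra.TensorProduct.Quotient

/-!
The stalk of the ideal module as the kernel of the map of local rings.
-/

set_option autoImplicit false
set_option backward.isDefEq.respectTransparency.types false
universe u

open CategoryTheory AlgebraicGeometry Opposite TensorProduct

namespace Groth.Agent.Conormal2

variable {X Z : Scheme.{u}}

/-- The stalk of the structure module is the local ring. -/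
noncomputable def oneEquiv (x : X) :
    X.presheaf.stalk x ≃ₗ[X.presheaf.stalk x] ((Coh.structureModule X).presheaf.stalk x : Type u) :=
  LinearEquiv.ofBijective (LinearMap.toSpanSingleton (X.presheaf.stalk x)
    ((Coh.structureModule X).presheaf.stalk x : Type u)
    ((Coh.structureModule X).presheaf.germ ⊤ x trivial (M1.one ⊤)))
    (Cyc26.structureModule_stalk_bijective x)

theorem oneEquiv_germ {U : X.Opens} {x : X} (hx : x ∈ U) (a : Γ(X, U)) :
    oneEquiv x (X.presheaf.germ U x hx a) =
      (Coh.structureModule X).presheaf.germ U x hx (show Γ(Coh.structureModule X, U) from a) := by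
  show X.presheaf.germ U x hx a • ((Coh.structureModule X).presheaf.germ ⊤ x trivial (M1.one ⊤) :
    ((Coh.structureModule X).presheaf.stalk x : Type u)) = _
  rw [← M1.germ_mres (Coh.structureModule X) (le_top : U ≤ ⊤) hx, M1.mres_one, ← M1.germ_smul]
  exact congrArg _ (show a * 1 = a from mul_one a)

variable (i : Z ⟶ X)

/-- The stalk of the ideal module inside the local ring. -/
noncomputable def incl (x : X) :
    ((ClSub.idealMod i.ker).presheaf.stalk x : Type u) →ₗ[X.presheaf.stalk x] X.presheaf.stalk x :=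
  (oneEquiv x).symm.toLinearMap.comp (KFlat.Sch.stk (ClSub.idealModι i.ker) x)

theorem incl_germ {U : X.Opens} {x : X} (hx : x ∈ U) (s : Γ(ClSub.idealMod i.ker, U)) :
    incl i x ((ClSub.idealMod i.ker).presheaf.germ U x hx s) =
      X.presheaf.germ U x hx (M2.idealIncl i.ker s) := by
  apply (oneEquiv x).injective
  rw [oneEquiv_germ]
  refine ((oneEquiv x).apply_symm_apply _).trans ?_
  exact TopCat.Presheaf.stalkFunctor_map_germ_apply U x hx
    ((Scheme.Modules.toPresheaf X).map (ClSub.idealModι i.ker)) s

theorem incl_injective (x : X) : Function.Injective (incl i x) :=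
  (oneEquiv x).symm.injective.comp
    ((KFlat.Sch.mono_iff_stalk (ClSub.idealModι i.ker)).1 (inferInstanceAs (Mono (Limits.kernel.ι _))) x)

theorem incl_mem_ker (z : Z) (m : ((ClSub.idealMod i.ker).presheaf.stalk (i z) : Type u)) :
    incl i (i z) m ∈ RingHom.ker (i.stalkMap z).hom := by
  obtain ⟨U, hU, s, rfl⟩ := (ClSub.idealMod i.ker).presheaf.exists_germ_eq m
  rw [RingHom.mem_ker, incl_germ]
  refine (Scheme.Hom.germ_stalkMap_apply i U z hU _).trans ?_
  rw [GrMap12.app_idealIncl_zero, map_zero]

theorem exists_incl_eq [IsImmersion i] [QuasiCompact i] (z : Z) (a : X.presheaf.stalk (i z))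
    (ha : a ∈ RingHom.ker (i.stalkMap z).hom) : ∃ m, incl i (i z) m = a := by
  obtain ⟨V, hV, b, rfl⟩ := X.presheaf.exists_germ_eq a
  obtain ⟨W, hW, hzW, s, hs⟩ := Omega12.exists_idealSect_of_germ_eq_zero i hV b
    ((Scheme.Hom.germ_stalkMap_apply i V z hV b).symm.trans ha)
  exact ⟨(ClSub.idealMod i.ker).presheaf.germ W (i z) hzW s, by
    rw [incl_germ, hs, TopCat.Presheaf.germ_res_apply]⟩

/-- Over a surjective base change, `1 ⊗ m = 0` only for `m ∈ K M`. -/
theorem mem_smul_top_of_one_tmul_eq_zero {R S M : Type u} [CommRing R] [CommRing S] [Algebra R S]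
    [AddCommGroup M] [Module R M] (h : Function.Surjective (algebraMap R S)) {m : M}
    (hm : (1 : S) ⊗ₜ[R] m = 0) : m ∈ RingHom.ker (algebraMap R S) • (⊤ : Submodule R M) := by
  let K : Ideal R := RingHom.ker (Algebra.ofId R S)
  let e : (R ⧸ K) ≃ₐ[R] S := Ideal.quotientKerAlgEquivOfSurjective (f := Algebra.ofId R S) h
  have h1 := congrArg (TensorProduct.congr e.symm.toLinearEquiv (LinearEquiv.refl R M)) hm
  rw [map_zero, TensorProduct.congr_tmul, AlgEquiv.toLinearEquiv_apply, map_one, LinearEquiv.refl_apply] at h1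
  have h2 := congrArg (TensorProduct.quotTensorEquivQuotSMul M K) h1
  rw [map_zero, show (1 : R ⧸ K) = Ideal.Quotient.mk K 1 from rfl,
    TensorProduct.quotTensorEquivQuotSMul_mk_tmul, one_smul, Submodule.Quotient.mk_eq_zero] at h2
  exact h2

end Groth.Agent.Conormal2
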